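import Groth.Agent.S0212
import Groth.Agent.Ci77.Basic
import Mathlib.RepresentationTheory.Homological.GroupCohomology.Hilbert90
import Mathlib.RingTheory.Norm.Transitivity
import Mathlib.RingTheory.AlgebraicIndependent.TranscendenceBasis
import Mathlib.GroupTheory.Sylow
import Mathlib.GroupTheory.PGroup
import Mathlib.FieldTheory.Galois.Basic

/-!
# Norms in extensions of function fields of curves
-/

set_option autoImplicit false
universe u

namespace Groth.Agent.C1Norm84

/-- In a C1 field norms of finite extensions are surjective. -/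
theorem norm_surjective_of_isCi_one {K L : Type u} [Field K] [Field L] [Algebra K L] [FiniteDimensional K L]
    (hK : Curves.IsCi K 1) : Function.Surjective (Algebra.norm K : L → K) := by
  classical
  intro c
  rcases eq_or_ne c 0 with rfl | hc
  · exact ⟨0, Algebra.norm_zero⟩
  let n := Module.finrank K L
  let b := Module.finBasis K L
  let M : Matrix (Fin n) (Fin n) (MvPolynomial (Fin n) K) := fun a a' =>
    ∑ i, MvPolynomial.C (Algebra.leftMulMatrix b (b i) a a') * MvPolynomial.X i
  have hM : ∀ a a', (M a a').IsHomogeneous 1 := fun a a' =>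
    MvPolynomial.IsHomogeneous.sum _ _ _ fun i _ => (MvPolynomial.isHomogeneous_X K i).C_mul _
  have hdet : M.det.IsHomogeneous n := by
    rw [Matrix.det_apply']
    refine MvPolynomial.IsHomogeneous.sum _ _ _ fun σ _ => ?_
    have h1 : (∏ i, M (σ i) i).IsHomogeneous n := by
      simpa using MvPolynomial.IsHomogeneous.prod Finset.univ (fun i => M (σ i) i) (fun _ => 1) fun i _ => hM _ _
    have h2 : ((Equiv.Perm.sign σ : ℤ) : MvPolynomial (Fin n) K) = MvPolynomial.C ((Equiv.Perm.sign σ : ℤ) : K) :=
      (map_intCast (MvPolynomial.C (R := K) (σ := Fin n)) _).symm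
    rw [h2]
    exact h1.C_mul _
  have heval : ∀ a : Fin n → K, MvPolynomial.eval a M.det = Algebra.norm K (∑ i, a i • b i) := by
    intro a
    rw [Algebra.norm_eq_matrix_det b, RingHom.map_det]
    congr 1
    ext r s
    show MvPolynomial.eval a (M r s) = _
    simp [M, map_sum, Matrix.sum_apply, mul_comm]
    rfl
  let G : MvPolynomial (Option (Fin n)) K :=
    MvPolynomial.rename some M.det - MvPolynomial.C c * MvPolynomial.X none ^ n
  have hn : 0 < n := Module.finrank_pos
  have hG : G.IsHomogeneous n :=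
    hdet.rename_isHomogeneous.sub ((MvPolynomial.isHomogeneous_X_pow none n).C_mul c)
  obtain ⟨a, ha, h⟩ := Groth.Agent.Ci77.isCi_apply hK (P := Unit) (fun _ => G) (fun _ => n) (fun _ => hG)
    (fun _ => hn) (by simp)
  have h0 := h ()
  simp only [G, map_sub, map_mul, map_pow, MvPolynomial.eval_C, MvPolynomial.eval_X, MvPolynomial.eval_rename,
    heval, sub_eq_zero] at h0
  have ht : a none ≠ 0 := by
    intro ht
    rw [ht, zero_pow hn.ne', mul_zero, Algebra.norm_eq_zero_iff] at h0
    have := Fintype.linearIndependent_iff.1 b.linearIndependent _ h0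
    exact ha (funext fun o => by rcases o with _ | i <;> [exact ht; exact this i])
  refine ⟨(a none)⁻¹ • ∑ i, (a ∘ some) i • b i, ?_⟩
  rw [Algebra.smul_def, map_mul, Algebra.norm_algebraMap, h0, inv_pow, mul_comm c, ← mul_assoc,
    inv_mul_cancel₀ (pow_ne_zero _ ht), one_mul]

theorem prod_eq_range_pow {K L : Type u} [Field K] [Field L] [Algebra K L] [FiniteDimensional K L]
    {g : L ≃ₐ[K] L} (hg : ∀ σ, σ ∈ Subgroup.zpowers g) (x : L) :
    ∏ σ : L ≃ₐ[K] L, σ x = ∏ j ∈ Finset.range (orderOf g), (g ^ j) x := by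
  classical
  have hbij : Function.Bijective (fun j : Fin (orderOf g) => g ^ (j : ℕ)) := by
    constructor
    · intro a b e
      have e' : g ^ (a : ℕ) = g ^ (b : ℕ) := e
      have ha : (a : ℕ) % orderOf g = (b : ℕ) % orderOf g := pow_eq_pow_iff_modEq.1 e'
      rw [Nat.mod_eq_of_lt a.isLt, Nat.mod_eq_of_lt b.isLt] at ha
      exact Fin.ext ha
    · intro σ
      obtain ⟨m, hm⟩ : σ ∈ Submonoid.powers g := (isOfFinOrder_of_finite g).mem_powers_iff_mem_zpowers.2 (hg σ)
      exact ⟨⟨m % orderOf g, Nat.mod_lt _ (orderOf_pos g)⟩, (pow_mod_orderOf g m).trans hm⟩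
  rw [← Fin.prod_univ_eq_prod_range (fun j => (g ^ j) x) (orderOf g)]
  symm
  exact Fintype.prod_bijective _ hbij _ _ fun _ => rfl

/-- Hilbert 90 for a cyclic extension, in every universe. -/
theorem hilbert90_cyclic {K L : Type u} [Field K] [Field L] [Algebra K L] [FiniteDimensional K L] [IsGalois K L]
    {g : L ≃ₐ[K] L} (hg : ∀ σ, σ ∈ Subgroup.zpowers g) {x : Lˣ} (hx : Algebra.norm K (x : L) = 1) :
    ∃ y : Lˣ, (x : L) = (y : L) / g (y : L) := by
  classical
  let act : (L ≃ₐ[K] L) → Lˣ → Lˣ := fun σ x => Units.mk0 (σ (x : L)) (by simp)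
  let c : ℕ → Lˣ := fun i => ∏ j ∈ Finset.range i, act (g ^ j) x
  let n := orderOf g
  have hn : 0 < n := orderOf_pos g
  have hadd : ∀ i j, c (i + j) = c i * act (g ^ i) (c j) := fun i j => by
    refine Units.ext ?_
    simp only [c, act, Finset.prod_range_add, Units.val_mul, Units.coe_prod, Units.val_mk0, map_prod]
    congr 1
    refine Finset.prod_congr rfl fun l _ => ?_
    rw [pow_add]; rfl
  have hcn : c n = 1 := by
    refine Units.ext ?_
    rw [Units.val_one, ← map_one (algebraMap K L), ← hx, Algebra.norm_eq_prod_automorphisms, prod_eq_range_pow hg]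
    simp only [c, act, n, Units.coe_prod, Units.val_mk0]
  have hmod : ∀ i, c i = c (i % n) := by
    intro i
    induction i using Nat.strong_induction_on with
    | _ i ih =>
      rcases lt_or_ge i n with h | h
      · rw [Nat.mod_eq_of_lt h]
      · obtain ⟨j, rfl⟩ := Nat.exists_eq_add_of_le h
        rw [hadd n j, hcn, one_mul, Nat.add_mod_left, pow_orderOf_eq_one, ← ih j (by omega)]
        exact Units.ext rfl
  have hex : ∀ σ : L ≃ₐ[K] L, ∃ m : ℕ, g ^ m = σ := fun σ => (isOfFinOrder_of_finite g).mem_powers_iff_mem_zpowers.2 (hg σ)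
  choose e he using hex
  obtain ⟨β, hβ⟩ := groupCohomology.isMulCoboundary₁_of_isMulCocycle₁_of_aut_to_units (fun σ => c (e σ))
    fun σ τ => by
      have h : (e (σ * τ)) % n = (e σ + e τ) % n := pow_eq_pow_iff_modEq.1 (by rw [pow_add, he, he, he])
      show c (e (σ * τ)) = σ • c (e τ) * c (e σ)
      rw [hmod, h, ← hmod, hadd, he, mul_comm]
      exact congrArg (· * c (e σ)) (Units.ext rfl)
  refine ⟨β⁻¹, ?_⟩
  have h1 : c (e g) = c 1 := by
    rw [hmod, pow_eq_pow_iff_modEq.1 ((he g).trans (pow_one g).symm), ← hmod]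
  have h := congrArg Units.val ((hβ g).trans h1)
  simp only [c, act, Finset.prod_range_one, pow_zero, Units.val_div_eq_div_val, Units.val_mk0] at h
  rw [Units.val_inv_eq_inv_val, map_inv₀, div_inv_eq_mul, inv_mul_eq_div]
  exact (Eq.symm h)

theorem norm_div {K L : Type u} [Field K] [Field L] [Algebra K L] [FiniteDimensional K L] (a b : L) (hb : b ≠ 0) :
    Algebra.norm K (a / b) = Algebra.norm K a / Algebra.norm K b := by
  rw [eq_div_iff (Algebra.norm_ne_zero_iff.2 hb), ← map_mul, div_mul_cancel₀ _ hb]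

/-- The subgroup generated by the elements `w / g w`. -/
def gen (K L : Type u) [Field K] [Field L] [Algebra K L] : Subgroup Lˣ :=
  Subgroup.closure {v : Lˣ | ∃ (w : Lˣ) (g : L ≃ₐ[K] L), (v : L) = (w : L) / g (w : L)}

variable (k : Type u) [Field k] [IsAlgClosed k]

theorem isCi_one (K : Type u) [Field K] [Algebra k K] (h : Algebra.trdeg k K = 1) : Curves.IsCi K 1 :=
  Groth.Agent.S0212.result k K 1 (by simpa using h)

variable {k}

theorem trdeg_of_algebraic {K E : Type u} [Field K] [Field E] [Algebra k K] [Algebra k E] [Algebra K E]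
    [IsScalarTower k K E] [Algebra.IsAlgebraic K E] (h : Algebra.trdeg k K = 1) : Algebra.trdeg k E = 1 := by
  rw [← trdeg_add_eq k (S := K) (A := E), trdeg_eq_zero (R := K) (A := E), add_zero, h]

section

variable {K L : Type u} [Field K] [Field L] [Algebra K L] [FiniteDimensional K L] [IsGalois K L]

theorem gen_le_normKer : ∀ u ∈ gen K L, Algebra.norm K (u : L) = 1 := by
  intro u hu
  have : gen K L ≤ (Units.map (Algebra.norm K : L →* K)).ker := by
    refine (Subgroup.closure_le _).2 ?_
    rintro v ⟨w, g, hv⟩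
    refine Units.ext ?_
    show Algebra.norm K (v : L) = 1
    rw [hv, norm_div _ _ (by simp), Algebra.norm_eq_of_algEquiv g, div_self (Algebra.norm_ne_zero_iff.2 w.ne_zero)]
  exact congrArg Units.val (this hu)

end

/-- Norm one elements for Galois `p`-extensions. -/
theorem mem_gen_of_pGroup {p : ℕ} [Fact p.Prime] :
    ∀ (n : ℕ) (K L : Type u) [Field K] [Field L] [Algebra k K] [Algebra K L] [FiniteDimensional K L] [IsGalois K L],
      Module.finrank K L ≤ n → IsPGroup p (L ≃ₐ[K] L) → Algebra.trdeg k K = 1 →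
      ∀ u : Lˣ, Algebra.norm K (u : L) = 1 → u ∈ gen K L := by
  intro n
  induction n with
  | zero =>
    intro K L _ _ _ _ _ _ hn
    exact absurd hn (Module.finrank_pos (R := K) (M := L)).not_ge
  | succ n ih =>
    intro K L _ _ _ _ _ _ hn hG htr u hu
    rcases subsingleton_or_nontrivial (L ≃ₐ[K] L) with hG' | hG'
    · have h : algebraMap K L (Algebra.norm K (u : L)) = ∏ σ : L ≃ₐ[K] L, σ (u : L) :=
        Algebra.norm_eq_prod_automorphisms _ _
      rw [hu, map_one, Fintype.prod_subsingleton _ 1, AlgEquiv.one_apply] at h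
      have hu1 : u = 1 := Units.ext h.symm
      rw [hu1]
      exact one_mem _
    have := hG.center_nontrivial
    obtain ⟨⟨x, hxc⟩, hx⟩ := exists_ne (1 : Subgroup.center (L ≃ₐ[K] L))
    let H := Subgroup.zpowers x
    have hH : H.Normal := ⟨fun a ha g => by
      have : a ∈ Subgroup.center (L ≃ₐ[K] L) := (Subgroup.zpowers_le.2 hxc) ha
      rw [(Subgroup.mem_center_iff.1 this g), mul_inv_cancel_right]; exact ha⟩
    let E := IntermediateField.fixedField H
    have hEg : IsGalois K E := IsGalois.of_fixedField_normal_subgroup H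
    have hfix : E.fixingSubgroup = H := IntermediateField.fixingSubgroup_fixedField H
    let : Algebra k E := ((algebraMap K E).comp (algebraMap k K)).toAlgebra
    have : IsScalarTower k K E := IsScalarTower.of_algebraMap_eq fun _ => rfl
    have htrE : Algebra.trdeg k E = 1 := trdeg_of_algebraic (K := K) htr
    have hlt : Module.finrank K E ≤ n := by
      have h1 := Module.finrank_mul_finrank K E L
      have h2 : Module.finrank E L = Nat.card H := IntermediateField.finrank_fixedField_eq_card H
      have h3 : 1 < Nat.card H := by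
        rw [Finite.one_lt_card_iff_nontrivial, Subgroup.nontrivial_iff_ne_bot]
        exact fun h => hx (Subtype.ext (Subgroup.zpowers_eq_bot.1 h))
      have h4 : Module.finrank K E * 2 ≤ Module.finrank K E * Module.finrank E L :=
        Nat.mul_le_mul_left _ (h2 ▸ h3)
      have := Module.finrank_pos (R := K) (M := E)
      omega
    have hGE : IsPGroup p (E ≃ₐ[K] E) :=
      hG.of_surjective (AlgEquiv.restrictNormalHom (F := K) (K₁ := L) E) (AlgEquiv.restrictNormalHom_surjective L)
    have hNu : Algebra.norm K (Algebra.norm E (u : L)) = 1 := by rw [Algebra.norm_norm, hu]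
    have hne : Algebra.norm E (u : L) ≠ 0 := Algebra.norm_ne_zero_iff.2 u.ne_zero
    have hmem := ih K E hlt hGE htr (Units.mk0 _ hne) hNu
    have hsurj : Function.Surjective (Algebra.norm E : L → E) := norm_surjective_of_isCi_one (isCi_one k E htrE)
    have hle : gen K E ≤ (gen K L).map (Units.map (Algebra.norm E : L →* E)) := by
      refine (Subgroup.closure_le _).2 ?_
      rintro v ⟨w, g, hv⟩
      obtain ⟨z, hz⟩ := hsurj (w : E)
      have hz0 : z ≠ 0 := by
        rintro rfl
        exact w.ne_zero (hz.symm.trans Algebra.norm_zero)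
      let g' : L ≃ₐ[K] L := g.liftNormal L
      have hg : Algebra.norm E (g' z) = g (Algebra.norm E z) := by
        have h := Algebra.norm_eq_of_equiv_equiv g.toRingEquiv g'.toRingEquiv
          (RingHom.ext fun e => (g.liftNormal_commutes L e).symm) z
        exact (g.toRingEquiv.apply_symm_apply _).symm.trans (congrArg g h.symm)
      refine ⟨Units.mk0 z hz0 / Units.mk0 (g' z) (by simpa using hz0), Subgroup.subset_closure
        ⟨Units.mk0 z hz0, g', ?_⟩, Units.ext ?_⟩
      · rw [Units.val_div_eq_div_val]; rfl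
      · rw [Units.coe_map, Units.val_div_eq_div_val, Units.val_mk0, Units.val_mk0, hv]
        rw [norm_div _ _ (by simpa using hz0), hg, hz]
    obtain ⟨b, hb, hbu⟩ := hle hmem
    have hker : Algebra.norm E ((u / b : Lˣ) : L) = 1 := by
      have h := congrArg Units.val hbu
      simp only [Units.coe_map, Units.val_mk0] at h
      rw [Units.val_div_eq_div_val, norm_div _ _ b.ne_zero, h, div_self hne]
    let x' : E.fixingSubgroup := ⟨x, hfix ▸ Subgroup.mem_zpowers x⟩
    let σ := IntermediateField.fixingSubgroupEquiv E x'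
    have hgen : ∀ τ : L ≃ₐ[E] L, τ ∈ Subgroup.zpowers σ := fun τ => by
      obtain ⟨y, rfl⟩ := (IntermediateField.fixingSubgroupEquiv E).surjective τ
      obtain ⟨m, hm⟩ := hfix.le y.2
      exact ⟨m, (map_zpow _ x' m).symm.trans (congrArg _ (Subtype.ext (by simpa [x'] using hm)))⟩
    obtain ⟨y, hy⟩ := hilbert90_cyclic hgen hker
    have hub : u / b ∈ gen K L := Subgroup.subset_closure ⟨y, σ.restrictScalars K, hy⟩
    simpa using mul_mem hub hb

/-- Norm one elements for Galois extensions. -/
theorem mem_gen {K L : Type u} [Field K] [Field L] [Algebra k K] [Algebra K L] [FiniteDimensional K L]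
    [IsGalois K L] (htr : Algebra.trdeg k K = 1) (u : Lˣ) (hu : Algebra.norm K (u : L) = 1) : u ∈ gen K L := by
  classical
  let q : Lˣ →* Lˣ ⧸ gen K L := QuotientGroup.mk' _
  suffices orderOf (q u) = 1 from (QuotientGroup.eq_one_iff u).1 (orderOf_eq_one_iff.1 this)
  refine Nat.eq_one_iff_not_exists_prime_dvd.2 fun p hp hdvd => ?_
  have := Fact.mk hp
  obtain ⟨P⟩ : Nonempty (Sylow p (L ≃ₐ[K] L)) := inferInstance
  let E := IntermediateField.fixedField (P : Subgroup (L ≃ₐ[K] L))
  have hfix : E.fixingSubgroup = P := IntermediateField.fixingSubgroup_fixedField _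
  let H := E.fixingSubgroup
  suffices q u ^ H.index = 1 by
    exact P.not_dvd_index ((dvd_trans hdvd (orderOf_dvd_of_pow_eq_one this)).trans (by rw [show H = _ from hfix]))
  let : Algebra k E := ((algebraMap K E).comp (algebraMap k K)).toAlgebra
  have : IsScalarTower k K E := IsScalarTower.of_algebraMap_eq fun _ => rfl
  have htrE : Algebra.trdeg k E = 1 := trdeg_of_algebraic (K := K) htr
  have hGE : IsPGroup p (L ≃ₐ[E] L) :=
    P.isPGroup'.of_equiv ((MulEquiv.subgroupCongr hfix).symm.trans (IntermediateField.fixingSubgroupEquiv E))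
  let c : (L ≃ₐ[K] L) ⧸ H → Lˣ := fun s => Units.map (s.out⁻¹ : L ≃ₐ[K] L).toRingEquiv.toRingHom.toMonoidHom u
  let v : Lˣ := ∏ s, c s
  have hqv : q v = q u ^ H.index := by
    rw [map_prod, Subgroup.index_eq_card, Nat.card_eq_fintype_card, ← Finset.card_univ]
    refine Finset.prod_eq_pow_card fun s _ => ?_
    refine (div_eq_one.1 ?_).symm
    refine (map_div q _ _).symm.trans ?_
    exact (QuotientGroup.eq_one_iff _).2 (Subgroup.subset_closure ⟨u, s.out⁻¹, Units.val_div_eq_div_val _ _⟩)
  rw [← hqv]
  refine (QuotientGroup.eq_one_iff v).2 ?_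
  have hNv : Algebra.norm E (v : L) = 1 := by
    refine (algebraMap E L).injective ?_
    rw [map_one, Algebra.norm_eq_prod_automorphisms,
      ← (IntermediateField.fixingSubgroupEquiv E).toEquiv.prod_comp]
    simp only [v, c, Units.coe_prod, map_prod]
    rw [← Finset.univ.prod_product' Finset.univ]
    rw [← map_one (algebraMap K L), ← hu, Algebra.norm_eq_prod_automorphisms]
    refine Fintype.prod_bijective (fun z : H × ((L ≃ₐ[K] L) ⧸ H) => (z.1 : L ≃ₐ[K] L) * z.2.out⁻¹) ?_ _ _ fun z => rfl
    refine (Fintype.bijective_iff_injective_and_card _).2 ⟨?_, ?_⟩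
    · rintro ⟨h, s⟩ ⟨h', s'⟩ e
      replace e : (h : L ≃ₐ[K] L) * s.out⁻¹ = h' * s'.out⁻¹ := e
      have e' : s'.out⁻¹ * s.out = (h' : L ≃ₐ[K] L)⁻¹ * h := by
        calc s'.out⁻¹ * s.out = (h' : L ≃ₐ[K] L)⁻¹ * ((h' : L ≃ₐ[K] L) * s'.out⁻¹) * s.out := by group
          _ = (h' : L ≃ₐ[K] L)⁻¹ * h := by rw [← e]; group
      have hs : s' = s := by
        rw [← QuotientGroup.out_eq' s, ← QuotientGroup.out_eq' s', QuotientGroup.eq, e']
        exact H.mul_mem (H.inv_mem h'.2) h.2
      subst hs
      exact Prod.ext (Subtype.ext (mul_right_cancel e)) rfl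
    · rw [← Nat.card_eq_fintype_card, ← Nat.card_eq_fintype_card, Nat.card_prod,
        Subgroup.card_eq_card_quotient_mul_card_subgroup H, mul_comm]
  have hv := mem_gen_of_pGroup _ E L le_rfl hGE htrE v hNv
  have hle : gen E L ≤ gen K L := by
    refine Subgroup.closure_mono ?_
    rintro x ⟨w, g, h⟩
    exact ⟨w, g.restrictScalars K, h⟩
  exact hle hv

end Groth.Agent.C1Norm84
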